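import Cfsg.Agent.Lib.Helper4.Orb.McLB.Trans
import Cfsg.Agent.Lib.Helper4.Orb.McL.Main

set_option autoImplicit false
set_option linter.style.haveILetI false
set_option linter.unusedVariables false
set_option linter.unusedSectionVars false

/-! The joint stabiliser of a vector `u` of sum of squares 48 and a minimal vector `v` with
`u - v` minimal: its orbits on the minimal vectors of inner product `-8` with `v`. -/

namespace Cfsg.Agent.Helper4.CO.McLB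

open Cfsg Cfsg.Agent.Lib.Helper28 Cfsg.Agent.Helper4.CO

theorem anc0_eq : anc0 = McL.anc0 := by decide

theorem anc1_eq : anc1 = McL.anc1 := by decide

theorem anc2_eq : anc2 = McL.anc2 := by decide

theorem exists_based (u v : leechLattice) (hu : sqNorm (u : GolayPt → ℤ) = 48)
    (hv : v ∈ dotSet 32 u 0 0 (24, 0, 0)) :
    ∃ h : Co0, Based h u v 0 anc0 anc1 anc2 := by
  obtain ⟨h, hb⟩ := McL.exists_based u v hu hv
  exact ⟨h, hb.congr anc0_eq.symm anc1_eq.symm anc2_eq.symm⟩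

theorem card_of (u v : leechLattice) (hu : sqNorm (u : GolayPt → ℤ) = 48)
    (hv : v ∈ dotSet 32 u 0 0 (24, 0, 0)) :
    (dotSet 32 u v 0 (8, -8, 0)).ncard = 2025 ∧ (dotSet 32 u v 0 (0, -8, 0)).ncard = 15400 ∧
    (dotSet 32 u v 0 (-8, -8, 0)).ncard = 22275 ∧ (dotSet 32 u v 0 (-16, -8, 0)).ncard = 7128 ∧
    (dotSet 32 u v 0 (-24, -8, 0)).ncard = 275 := by
  obtain ⟨h, hb⟩ := exists_based u v hu hv
  refine ⟨?_, ?_, ?_, ?_, ?_⟩
  · rw [hb.ncard anc0_in.1 anc1_in.1 anc2_in.1, countBa]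
  · rw [hb.ncard anc0_in.1 anc1_in.1 anc2_in.1, countBb]
  · rw [hb.ncard anc0_in.1 anc1_in.1 anc2_in.1, countBc]
  · rw [hb.ncard anc0_in.1 anc1_in.1 anc2_in.1, countBd]
  · rw [hb.ncard anc0_in.1 anc1_in.1 anc2_in.1, countBe]

/-- transitivity on each of the five sets -/
theorem trans_of (u v : leechLattice) (hu : sqNorm (u : GolayPt → ℤ) = 48)
    (hv : v ∈ dotSet 32 u 0 0 (24, 0, 0)) (c : ℤ × ℤ × ℤ)
    (hc : c = (8, -8, 0) ∨ c = (0, -8, 0) ∨ c = (-8, -8, 0) ∨ c = (-16, -8, 0) ∨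
      c = (-24, -8, 0)) {x x' : leechLattice}
    (hx : x ∈ dotSet 32 u v 0 c) (hx' : x' ∈ dotSet 32 u v 0 c) :
    ∃ g : Co0, g • u = u ∧ g • v = v ∧ g • x = x' := by
  obtain ⟨h, hb⟩ := exists_based u v hu hv
  rcases hc with rfl | rfl | rfl | rfl | rfl
  · obtain ⟨g, h1, h2, _, h3⟩ := hb.trans transBa hx hx'
    exact ⟨g, h1, h2, h3⟩
  · obtain ⟨g, h1, h2, _, h3⟩ := hb.trans transBb hx hx'
    exact ⟨g, h1, h2, h3⟩
  · obtain ⟨g, h1, h2, _, h3⟩ := hb.trans transBc hx hx'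
    exact ⟨g, h1, h2, h3⟩
  · obtain ⟨g, h1, h2, _, h3⟩ := hb.trans transBd hx hx'
    exact ⟨g, h1, h2, h3⟩
  · obtain ⟨g, h1, h2, _, h3⟩ := hb.trans transBe hx hx'
    exact ⟨g, h1, h2, h3⟩

end Cfsg.Agent.Helper4.CO.McLB
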