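import Cfsg.Agent.Lib.Helper4.CoNodup
import Cfsg.Agent.Lib.Helper4.Orb.McLB.BeF0

set_option autoImplicit false
set_option linter.style.haveILetI false
set_option linter.unusedVariables false
set_option linter.unusedSectionVars false

/-! Orbit certificate assembly (generated data). -/

namespace Cfsg.Agent.Helper4.CO.McLB

open Cfsg Cfsg.Agent.Helper4.CO

/-- the full chunks -/
def tnBe : List (List ℕ × ℕ) :=
  []

/-- the chunks -/
def chunksBe : List (List ℕ × List ℕ) := mkChunks 2000 tnBe tapeBe0 275 numBe0

theorem chunksBe_ok : ∀ ch ∈ chunksBe, chunkOK gens startBe ch.1 ch.2 = true := by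
  apply mem_mkChunks
  · intro p hp
    simp [tnBe] at hp
  · exact okBe0

/-- positions in increasing order of the keys -/
def sigmaBe : List ℕ := flatW 17 2000
  []
  275 0x180090007a002e00174008e00720038801e00088005a0028801f400a600500022801040102005800230019c010000e300498028801ce00db00190007c01b400310010002dc022200aa00420007801f000e40017002cc01c00017001200268011a00ea005a8040c01300023006b803e8018200e100458041c0204008c004f003780132009f006c0021801d2002b000c80440021e00dd0061002f4005800cd0064802fc004c0036006280070004e0035007b802f801a000d2006780420014a00340067003c401460029000b002ac014e00c70044004240198009c006f8042c018000f5004b00060005e003000470008401c400c3005700430012e00a8004880310010a00f0007f0025401280106001280248020800c800198042801e400a4006300240003a00ed00798039801ac000c003b001580096003a0041801f0007e0068002b8019400de007e0033001e400c2004a0001801b000860042001e001a800980037002a800f8007a0077001d8003800be004f00300016400d20062003f8019000f600020039801b400720070002d8013800ea000a0020001ac009a0049000000148010400740002801b800020038002f0004000a8000700068018c0016001300020005400100009000900044001e00140047800b4010e001a006a00280017600b00080803ac0178010d005b003640162010000698008801de00a6007e002bc021c00fd007c8037001ec00b200568039401dc002800740032c011200ec0056003d00170008a004e802a4017400b90068802d00224002a00508041401fe00d50065003ec0136001b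

set_option maxRecDepth 1000000 in
theorem certBe : certOK 2000 (tnBe.map fun p => p.2) 275 numBe0 sigmaBe = true := by
  decide +kernel

theorem chunksBe_nd : (chunksBe.flatMap fun ch => ch.2).Nodup :=
  nodup_mkChunks 2000 tnBe tapeBe0 275 numBe0 sigmaBe certBe

theorem chunksBe_len : (chunksBe.flatMap fun ch => ch.2).length = 275 := by
  unfold chunksBe
  rw [length_mkChunks]
  decide

end Cfsg.Agent.Helper4.CO.McLB
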