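import Cfsg.Agent.Lib.Helper4.Orb.McLB.Cfg

set_option autoImplicit false
set_option linter.style.haveILetI false
set_option linter.unusedVariables false
set_option linter.unusedSectionVars false

/-! Start vector of an orbit (generated data). -/

namespace Cfsg.Agent.Helper4.CO.McLB

open Cfsg Cfsg.Agent.Helper4.CO

/-- start vector -/
def startBa : List ℤ := [0, -2, 0, 0, 0, 0, 0, 0, 0, 0, 0, 0, -2, 2, 2, 2, 2, 0, 0, 2, 0, 0, 2, 0]

theorem startBa_in : InLP startBa := by decide +kernel

end Cfsg.Agent.Helper4.CO.McLB
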