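import Cfsg.Agent.Lib.Helper4.CoOrbitCount
import Cfsg.Agent.Lib.Helper4.Orb.McLB.Cfg

set_option autoImplicit false
set_option linter.style.haveILetI false
set_option linter.unusedVariables false
set_option linter.unusedSectionVars false
set_option Elab.async false

/-! A count of vectors with prescribed inner products (kernel computation). -/

namespace Cfsg.Agent.Helper4.CO.McLB

open Cfsg Cfsg.Agent.Helper4.CO

set_option maxRecDepth 1000000 in
theorem countBa_p : part1 anc0 anc1 anc2 (8, -8, 0) = 0 := by decide +kernel

set_option maxRecDepth 1000000 in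
theorem countBa_b0 : partB anc0 anc1 anc2 (8, -8, 0) 0 = 30 := by decide +kernel

set_option maxRecDepth 1000000 in
theorem countBa_b1 : partB anc0 anc1 anc2 (8, -8, 0) 1 = 96 := by decide +kernel

set_option maxRecDepth 1000000 in
theorem countBa_b2 : partB anc0 anc1 anc2 (8, -8, 0) 2 = 96 := by decide +kernel

set_option maxRecDepth 1000000 in
theorem countBa_b3 : partB anc0 anc1 anc2 (8, -8, 0) 3 = 240 := by decide +kernel

set_option maxRecDepth 1000000 in
theorem countBa_b4 : partB anc0 anc1 anc2 (8, -8, 0) 4 = 560 := by decide +kernel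

set_option maxRecDepth 1000000 in
theorem countBa_b5 : partB anc0 anc1 anc2 (8, -8, 0) 5 = 280 := by decide +kernel

set_option maxRecDepth 1000000 in
theorem countBa_b6 : partB anc0 anc1 anc2 (8, -8, 0) 6 = 280 := by decide +kernel

set_option maxRecDepth 1000000 in
theorem countBa_b7 : partB anc0 anc1 anc2 (8, -8, 0) 7 = 112 := by decide +kernel

set_option maxRecDepth 1000000 in
theorem countBa_b8 : partB anc0 anc1 anc2 (8, -8, 0) 8 = 0 := by decide +kernel

set_option maxRecDepth 1000000 in
theorem countBa_b9 : partB anc0 anc1 anc2 (8, -8, 0) 9 = 0 := by decide +kernel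

set_option maxRecDepth 1000000 in
theorem countBa_b10 : partB anc0 anc1 anc2 (8, -8, 0) 10 = 0 := by decide +kernel

set_option maxRecDepth 1000000 in
theorem countBa_b11 : partB anc0 anc1 anc2 (8, -8, 0) 11 = 0 := by decide +kernel

set_option maxRecDepth 1000000 in
theorem countBa_b12 : partB anc0 anc1 anc2 (8, -8, 0) 12 = 40 := by decide +kernel

set_option maxRecDepth 1000000 in
theorem countBa_b13 : partB anc0 anc1 anc2 (8, -8, 0) 13 = 80 := by decide +kernel

set_option maxRecDepth 1000000 in
theorem countBa_b14 : partB anc0 anc1 anc2 (8, -8, 0) 14 = 80 := by decide +kernel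

set_option maxRecDepth 1000000 in
theorem countBa_b15 : partB anc0 anc1 anc2 (8, -8, 0) 15 = 131 := by decide +kernel

theorem countBa : fast32 anc0 anc1 anc2 (8, -8, 0) = 2025 := by
  rw [fast32_parts, countBa_p, countBa_b0, countBa_b1, countBa_b2, countBa_b3, countBa_b4, countBa_b5, countBa_b6, countBa_b7, countBa_b8, countBa_b9, countBa_b10, countBa_b11, countBa_b12, countBa_b13, countBa_b14, countBa_b15]

end Cfsg.Agent.Helper4.CO.McLB
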