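import Cfsg.Agent.Lib.Helper4.CoOrbitCount
import Cfsg.Agent.Lib.Helper4.Orb.McLB.Cfg

set_option autoImplicit false
set_option linter.style.haveILetI false
set_option linter.unusedVariables false
set_option linter.unusedSectionVars false
set_option Elab.async false

/-! A count of vectors with prescribed inner products (kernel computation). -/

namespace Cfsg.Agent.Helper4.CO.McLB

open Cfsg Cfsg.Agent.Helper4.CO

set_option maxRecDepth 1000000 in
theorem countBb_p : part1 anc0 anc1 anc2 (0, -8, 0) = 0 := by decide +kernel

set_option maxRecDepth 1000000 in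
theorem countBb_b0 : partB anc0 anc1 anc2 (0, -8, 0) 0 = 1280 := by decide +kernel

set_option maxRecDepth 1000000 in
theorem countBb_b1 : partB anc0 anc1 anc2 (0, -8, 0) 1 = 1856 := by decide +kernel

set_option maxRecDepth 1000000 in
theorem countBb_b2 : partB anc0 anc1 anc2 (0, -8, 0) 2 = 1856 := by decide +kernel

set_option maxRecDepth 1000000 in
theorem countBb_b3 : partB anc0 anc1 anc2 (0, -8, 0) 3 = 2400 := by decide +kernel

set_option maxRecDepth 1000000 in
theorem countBb_b4 : partB anc0 anc1 anc2 (0, -8, 0) 4 = 2800 := by decide +kernel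

set_option maxRecDepth 1000000 in
theorem countBb_b5 : partB anc0 anc1 anc2 (0, -8, 0) 5 = 1400 := by decide +kernel

set_option maxRecDepth 1000000 in
theorem countBb_b6 : partB anc0 anc1 anc2 (0, -8, 0) 6 = 1400 := by decide +kernel

set_option maxRecDepth 1000000 in
theorem countBb_b7 : partB anc0 anc1 anc2 (0, -8, 0) 7 = 560 := by decide +kernel

set_option maxRecDepth 1000000 in
theorem countBb_b8 : partB anc0 anc1 anc2 (0, -8, 0) 8 = 560 := by decide +kernel

set_option maxRecDepth 1000000 in
theorem countBb_b9 : partB anc0 anc1 anc2 (0, -8, 0) 9 = 280 := by decide +kernel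

set_option maxRecDepth 1000000 in
theorem countBb_b10 : partB anc0 anc1 anc2 (0, -8, 0) 10 = 280 := by decide +kernel

set_option maxRecDepth 1000000 in
theorem countBb_b11 : partB anc0 anc1 anc2 (0, -8, 0) 11 = 112 := by decide +kernel

set_option maxRecDepth 1000000 in
theorem countBb_b12 : partB anc0 anc1 anc2 (0, -8, 0) 12 = 176 := by decide +kernel

set_option maxRecDepth 1000000 in
theorem countBb_b13 : partB anc0 anc1 anc2 (0, -8, 0) 13 = 160 := by decide +kernel

set_option maxRecDepth 1000000 in
theorem countBb_b14 : partB anc0 anc1 anc2 (0, -8, 0) 14 = 160 := by decide +kernel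

set_option maxRecDepth 1000000 in
theorem countBb_b15 : partB anc0 anc1 anc2 (0, -8, 0) 15 = 120 := by decide +kernel

theorem countBb : fast32 anc0 anc1 anc2 (0, -8, 0) = 15400 := by
  rw [fast32_parts, countBb_p, countBb_b0, countBb_b1, countBb_b2, countBb_b3, countBb_b4, countBb_b5, countBb_b6, countBb_b7, countBb_b8, countBb_b9, countBb_b10, countBb_b11, countBb_b12, countBb_b13, countBb_b14, countBb_b15]

end Cfsg.Agent.Helper4.CO.McLB
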