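import Cfsg.Agent.Lib.Helper4.CoOrbitCount
import Cfsg.Agent.Lib.Helper4.Orb.McLB.Cfg

set_option autoImplicit false
set_option linter.style.haveILetI false
set_option linter.unusedVariables false
set_option linter.unusedSectionVars false
set_option Elab.async false

/-! A count of vectors with prescribed inner products (kernel computation). -/

namespace Cfsg.Agent.Helper4.CO.McLB

open Cfsg Cfsg.Agent.Helper4.CO

set_option maxRecDepth 1000000 in
theorem countBc_p : part1 anc0 anc1 anc2 (-8, -8, 0) = 0 := by decide +kernel

set_option maxRecDepth 1000000 in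
theorem countBc_b0 : partB anc0 anc1 anc2 (-8, -8, 0) 0 = 3260 := by decide +kernel

set_option maxRecDepth 1000000 in
theorem countBc_b1 : partB anc0 anc1 anc2 (-8, -8, 0) 1 = 3040 := by decide +kernel

set_option maxRecDepth 1000000 in
theorem countBc_b2 : partB anc0 anc1 anc2 (-8, -8, 0) 2 = 3040 := by decide +kernel

set_option maxRecDepth 1000000 in
theorem countBc_b3 : partB anc0 anc1 anc2 (-8, -8, 0) 3 = 2672 := by decide +kernel

set_option maxRecDepth 1000000 in
theorem countBc_b4 : partB anc0 anc1 anc2 (-8, -8, 0) 4 = 1680 := by decide +kernel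

set_option maxRecDepth 1000000 in
theorem countBc_b5 : partB anc0 anc1 anc2 (-8, -8, 0) 5 = 840 := by decide +kernel

set_option maxRecDepth 1000000 in
theorem countBc_b6 : partB anc0 anc1 anc2 (-8, -8, 0) 6 = 840 := by decide +kernel

set_option maxRecDepth 1000000 in
theorem countBc_b7 : partB anc0 anc1 anc2 (-8, -8, 0) 7 = 336 := by decide +kernel

set_option maxRecDepth 1000000 in
theorem countBc_b8 : partB anc0 anc1 anc2 (-8, -8, 0) 8 = 2800 := by decide +kernel

set_option maxRecDepth 1000000 in
theorem countBc_b9 : partB anc0 anc1 anc2 (-8, -8, 0) 9 = 1400 := by decide +kernel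

set_option maxRecDepth 1000000 in
theorem countBc_b10 : partB anc0 anc1 anc2 (-8, -8, 0) 10 = 1400 := by decide +kernel

set_option maxRecDepth 1000000 in
theorem countBc_b11 : partB anc0 anc1 anc2 (-8, -8, 0) 11 = 560 := by decide +kernel

set_option maxRecDepth 1000000 in
theorem countBc_b12 : partB anc0 anc1 anc2 (-8, -8, 0) 12 = 80 := by decide +kernel

set_option maxRecDepth 1000000 in
theorem countBc_b13 : partB anc0 anc1 anc2 (-8, -8, 0) 13 = 96 := by decide +kernel

set_option maxRecDepth 1000000 in
theorem countBc_b14 : partB anc0 anc1 anc2 (-8, -8, 0) 14 = 96 := by decide +kernel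

set_option maxRecDepth 1000000 in
theorem countBc_b15 : partB anc0 anc1 anc2 (-8, -8, 0) 15 = 135 := by decide +kernel

theorem countBc : fast32 anc0 anc1 anc2 (-8, -8, 0) = 22275 := by
  rw [fast32_parts, countBc_p, countBc_b0, countBc_b1, countBc_b2, countBc_b3, countBc_b4, countBc_b5, countBc_b6, countBc_b7, countBc_b8, countBc_b9, countBc_b10, countBc_b11, countBc_b12, countBc_b13, countBc_b14, countBc_b15]

end Cfsg.Agent.Helper4.CO.McLB
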