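import Cfsg.Agent.Lib.Helper4.CoOrbitCount
import Cfsg.Agent.Lib.Helper4.Orb.McLB.Cfg

set_option autoImplicit false
set_option linter.style.haveILetI false
set_option linter.unusedVariables false
set_option linter.unusedSectionVars false
set_option Elab.async false

/-! A count of vectors with prescribed inner products (kernel computation). -/

namespace Cfsg.Agent.Helper4.CO.McLB

open Cfsg Cfsg.Agent.Helper4.CO

set_option maxRecDepth 1000000 in
theorem countBd_p : part1 anc0 anc1 anc2 (-16, -8, 0) = 0 := by decide +kernel

set_option maxRecDepth 1000000 in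
theorem countBd_b0 : partB anc0 anc1 anc2 (-16, -8, 0) 0 = 1040 := by decide +kernel

set_option maxRecDepth 1000000 in
theorem countBd_b1 : partB anc0 anc1 anc2 (-16, -8, 0) 1 = 640 := by decide +kernel

set_option maxRecDepth 1000000 in
theorem countBd_b2 : partB anc0 anc1 anc2 (-16, -8, 0) 2 = 640 := by decide +kernel

set_option maxRecDepth 1000000 in
theorem countBd_b3 : partB anc0 anc1 anc2 (-16, -8, 0) 3 = 320 := by decide +kernel

set_option maxRecDepth 1000000 in
theorem countBd_b4 : partB anc0 anc1 anc2 (-16, -8, 0) 4 = 80 := by decide +kernel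

set_option maxRecDepth 1000000 in
theorem countBd_b5 : partB anc0 anc1 anc2 (-16, -8, 0) 5 = 40 := by decide +kernel

set_option maxRecDepth 1000000 in
theorem countBd_b6 : partB anc0 anc1 anc2 (-16, -8, 0) 6 = 40 := by decide +kernel

set_option maxRecDepth 1000000 in
theorem countBd_b7 : partB anc0 anc1 anc2 (-16, -8, 0) 7 = 16 := by decide +kernel

set_option maxRecDepth 1000000 in
theorem countBd_b8 : partB anc0 anc1 anc2 (-16, -8, 0) 8 = 1680 := by decide +kernel

set_option maxRecDepth 1000000 in
theorem countBd_b9 : partB anc0 anc1 anc2 (-16, -8, 0) 9 = 840 := by decide +kernel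

set_option maxRecDepth 1000000 in
theorem countBd_b10 : partB anc0 anc1 anc2 (-16, -8, 0) 10 = 840 := by decide +kernel

set_option maxRecDepth 1000000 in
theorem countBd_b11 : partB anc0 anc1 anc2 (-16, -8, 0) 11 = 336 := by decide +kernel

set_option maxRecDepth 1000000 in
theorem countBd_b12 : partB anc0 anc1 anc2 (-16, -8, 0) 12 = 176 := by decide +kernel

set_option maxRecDepth 1000000 in
theorem countBd_b13 : partB anc0 anc1 anc2 (-16, -8, 0) 13 = 160 := by decide +kernel

set_option maxRecDepth 1000000 in
theorem countBd_b14 : partB anc0 anc1 anc2 (-16, -8, 0) 14 = 160 := by decide +kernel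

set_option maxRecDepth 1000000 in
theorem countBd_b15 : partB anc0 anc1 anc2 (-16, -8, 0) 15 = 120 := by decide +kernel

theorem countBd : fast32 anc0 anc1 anc2 (-16, -8, 0) = 7128 := by
  rw [fast32_parts, countBd_p, countBd_b0, countBd_b1, countBd_b2, countBd_b3, countBd_b4, countBd_b5, countBd_b6, countBd_b7, countBd_b8, countBd_b9, countBd_b10, countBd_b11, countBd_b12, countBd_b13, countBd_b14, countBd_b15]

end Cfsg.Agent.Helper4.CO.McLB
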