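import Cfsg.Agent.Lib.Helper4.CoOrbitCount
import Cfsg.Agent.Lib.Helper4.Orb.McLB.Cfg

set_option autoImplicit false
set_option linter.style.haveILetI false
set_option linter.unusedVariables false
set_option linter.unusedSectionVars false
set_option Elab.async false

/-! A count of vectors with prescribed inner products (kernel computation). -/

namespace Cfsg.Agent.Helper4.CO.McLB

open Cfsg Cfsg.Agent.Helper4.CO

set_option maxRecDepth 1000000 in
theorem countBe_p : part1 anc0 anc1 anc2 (-24, -8, 0) = 0 := by decide +kernel

set_option maxRecDepth 1000000 in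
theorem countBe_b0 : partB anc0 anc1 anc2 (-24, -8, 0) 0 = 22 := by decide +kernel

set_option maxRecDepth 1000000 in
theorem countBe_b1 : partB anc0 anc1 anc2 (-24, -8, 0) 1 = 0 := by decide +kernel

set_option maxRecDepth 1000000 in
theorem countBe_b2 : partB anc0 anc1 anc2 (-24, -8, 0) 2 = 0 := by decide +kernel

set_option maxRecDepth 1000000 in
theorem countBe_b3 : partB anc0 anc1 anc2 (-24, -8, 0) 3 = 0 := by decide +kernel

set_option maxRecDepth 1000000 in
theorem countBe_b4 : partB anc0 anc1 anc2 (-24, -8, 0) 4 = 0 := by decide +kernel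

set_option maxRecDepth 1000000 in
theorem countBe_b5 : partB anc0 anc1 anc2 (-24, -8, 0) 5 = 0 := by decide +kernel

set_option maxRecDepth 1000000 in
theorem countBe_b6 : partB anc0 anc1 anc2 (-24, -8, 0) 6 = 0 := by decide +kernel

set_option maxRecDepth 1000000 in
theorem countBe_b7 : partB anc0 anc1 anc2 (-24, -8, 0) 7 = 0 := by decide +kernel

set_option maxRecDepth 1000000 in
theorem countBe_b8 : partB anc0 anc1 anc2 (-24, -8, 0) 8 = 80 := by decide +kernel

set_option maxRecDepth 1000000 in
theorem countBe_b9 : partB anc0 anc1 anc2 (-24, -8, 0) 9 = 40 := by decide +kernel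

set_option maxRecDepth 1000000 in
theorem countBe_b10 : partB anc0 anc1 anc2 (-24, -8, 0) 10 = 40 := by decide +kernel

set_option maxRecDepth 1000000 in
theorem countBe_b11 : partB anc0 anc1 anc2 (-24, -8, 0) 11 = 16 := by decide +kernel

set_option maxRecDepth 1000000 in
theorem countBe_b12 : partB anc0 anc1 anc2 (-24, -8, 0) 12 = 40 := by decide +kernel

set_option maxRecDepth 1000000 in
theorem countBe_b13 : partB anc0 anc1 anc2 (-24, -8, 0) 13 = 16 := by decide +kernel

set_option maxRecDepth 1000000 in
theorem countBe_b14 : partB anc0 anc1 anc2 (-24, -8, 0) 14 = 16 := by decide +kernel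

set_option maxRecDepth 1000000 in
theorem countBe_b15 : partB anc0 anc1 anc2 (-24, -8, 0) 15 = 5 := by decide +kernel

theorem countBe : fast32 anc0 anc1 anc2 (-24, -8, 0) = 275 := by
  rw [fast32_parts, countBe_p, countBe_b0, countBe_b1, countBe_b2, countBe_b3, countBe_b4, countBe_b5, countBe_b6, countBe_b7, countBe_b8, countBe_b9, countBe_b10, countBe_b11, countBe_b12, countBe_b13, countBe_b14, countBe_b15]

end Cfsg.Agent.Helper4.CO.McLB
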