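import Cfsg.Agent.Lib.Helper4.Orb.McLB.Ba
import Cfsg.Agent.Lib.Helper4.Orb.McLB.CountBa
import Cfsg.Agent.Lib.Helper4.Orb.McLB.Bb
import Cfsg.Agent.Lib.Helper4.Orb.McLB.CountBb
import Cfsg.Agent.Lib.Helper4.Orb.McLB.Bc
import Cfsg.Agent.Lib.Helper4.Orb.McLB.CountBc
import Cfsg.Agent.Lib.Helper4.Orb.McLB.Bd
import Cfsg.Agent.Lib.Helper4.Orb.McLB.CountBd
import Cfsg.Agent.Lib.Helper4.Orb.McLB.Be
import Cfsg.Agent.Lib.Helper4.Orb.McLB.CountBe

set_option autoImplicit false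
set_option linter.style.haveILetI false
set_option linter.unusedVariables false
set_option linter.unusedSectionVars false

/-! Transitivity of a stabiliser on sets of vectors with prescribed inner products. -/

namespace Cfsg.Agent.Helper4.CO.McLB

open Cfsg Cfsg.Agent.Helper4.CO

theorem ncardBa : (statSet 32 anc0 anc1 anc2 (8, -8, 0)).ncard = (chunksBa.flatMap fun ch => ch.2).length := by
  rw [chunksBa_len, ncard_statSet anc0 anc1 anc2 anc0_in.1 anc1_in.1 anc2_in.1, countBa]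

theorem transBa : ∀ x ∈ statSet 32 anc0 anc1 anc2 (8, -8, 0), ∀ y ∈ statSet 32 anc0 anc1 anc2 (8, -8, 0),
    ∃ g : Co0, (∀ a ∈ anchors, FixL g a) ∧ g • x = y :=
  orbit_trans' anchors gens gensOK startBa startBa_in (by decide) _
    (mem_statSet_mkL 32 anc0 anc1 anc2 (8, -8, 0) anc0_in.1 anc1_in.1 anc2_in.1 startBa startBa_in
      (by decide) (by decide))
    (statSet_inv 32 anc0 anc1 anc2 (8, -8, 0) anc0_in anc1_in anc2_in) chunksBa chunksBa_ok chunksBa_nd
    ncardBa (Set.finite_of_ncard_ne_zero (by rw [ncardBa, chunksBa_len]; norm_num))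

theorem ncardBb : (statSet 32 anc0 anc1 anc2 (0, -8, 0)).ncard = (chunksBb.flatMap fun ch => ch.2).length := by
  rw [chunksBb_len, ncard_statSet anc0 anc1 anc2 anc0_in.1 anc1_in.1 anc2_in.1, countBb]

theorem transBb : ∀ x ∈ statSet 32 anc0 anc1 anc2 (0, -8, 0), ∀ y ∈ statSet 32 anc0 anc1 anc2 (0, -8, 0),
    ∃ g : Co0, (∀ a ∈ anchors, FixL g a) ∧ g • x = y :=
  orbit_trans' anchors gens gensOK startBb startBb_in (by decide) _
    (mem_statSet_mkL 32 anc0 anc1 anc2 (0, -8, 0) anc0_in.1 anc1_in.1 anc2_in.1 startBb startBb_in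
      (by decide) (by decide))
    (statSet_inv 32 anc0 anc1 anc2 (0, -8, 0) anc0_in anc1_in anc2_in) chunksBb chunksBb_ok chunksBb_nd
    ncardBb (Set.finite_of_ncard_ne_zero (by rw [ncardBb, chunksBb_len]; norm_num))

theorem ncardBc : (statSet 32 anc0 anc1 anc2 (-8, -8, 0)).ncard = (chunksBc.flatMap fun ch => ch.2).length := by
  rw [chunksBc_len, ncard_statSet anc0 anc1 anc2 anc0_in.1 anc1_in.1 anc2_in.1, countBc]

theorem transBc : ∀ x ∈ statSet 32 anc0 anc1 anc2 (-8, -8, 0), ∀ y ∈ statSet 32 anc0 anc1 anc2 (-8, -8, 0),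
    ∃ g : Co0, (∀ a ∈ anchors, FixL g a) ∧ g • x = y :=
  orbit_trans' anchors gens gensOK startBc startBc_in (by decide) _
    (mem_statSet_mkL 32 anc0 anc1 anc2 (-8, -8, 0) anc0_in.1 anc1_in.1 anc2_in.1 startBc startBc_in
      (by decide) (by decide))
    (statSet_inv 32 anc0 anc1 anc2 (-8, -8, 0) anc0_in anc1_in anc2_in) chunksBc chunksBc_ok chunksBc_nd
    ncardBc (Set.finite_of_ncard_ne_zero (by rw [ncardBc, chunksBc_len]; norm_num))

theorem ncardBd : (statSet 32 anc0 anc1 anc2 (-16, -8, 0)).ncard = (chunksBd.flatMap fun ch => ch.2).length := by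
  rw [chunksBd_len, ncard_statSet anc0 anc1 anc2 anc0_in.1 anc1_in.1 anc2_in.1, countBd]

theorem transBd : ∀ x ∈ statSet 32 anc0 anc1 anc2 (-16, -8, 0), ∀ y ∈ statSet 32 anc0 anc1 anc2 (-16, -8, 0),
    ∃ g : Co0, (∀ a ∈ anchors, FixL g a) ∧ g • x = y :=
  orbit_trans' anchors gens gensOK startBd startBd_in (by decide) _
    (mem_statSet_mkL 32 anc0 anc1 anc2 (-16, -8, 0) anc0_in.1 anc1_in.1 anc2_in.1 startBd startBd_in
      (by decide) (by decide))
    (statSet_inv 32 anc0 anc1 anc2 (-16, -8, 0) anc0_in anc1_in anc2_in) chunksBd chunksBd_ok chunksBd_nd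
    ncardBd (Set.finite_of_ncard_ne_zero (by rw [ncardBd, chunksBd_len]; norm_num))

theorem ncardBe : (statSet 32 anc0 anc1 anc2 (-24, -8, 0)).ncard = (chunksBe.flatMap fun ch => ch.2).length := by
  rw [chunksBe_len, ncard_statSet anc0 anc1 anc2 anc0_in.1 anc1_in.1 anc2_in.1, countBe]

theorem transBe : ∀ x ∈ statSet 32 anc0 anc1 anc2 (-24, -8, 0), ∀ y ∈ statSet 32 anc0 anc1 anc2 (-24, -8, 0),
    ∃ g : Co0, (∀ a ∈ anchors, FixL g a) ∧ g • x = y :=
  orbit_trans' anchors gens gensOK startBe startBe_in (by decide) _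
    (mem_statSet_mkL 32 anc0 anc1 anc2 (-24, -8, 0) anc0_in.1 anc1_in.1 anc2_in.1 startBe startBe_in
      (by decide) (by decide))
    (statSet_inv 32 anc0 anc1 anc2 (-24, -8, 0) anc0_in anc1_in anc2_in) chunksBe chunksBe_ok chunksBe_nd
    ncardBe (Set.finite_of_ncard_ne_zero (by rw [ncardBe, chunksBe_len]; norm_num))

end Cfsg.Agent.Helper4.CO.McLB
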